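import Cfsg.Agent.H310.CY.PJ
import Cfsg.Agent.H488.CY.Perm

/-!
# S4829: the row from a multiplicity free permutation character (helper310)

* `rowA_of_MF` : `MF p H → RowA p S`.
-/

set_option autoImplicit false
set_option linter.unusedSectionVars false

open Cfsg

namespace Cfsg.Agent.H310.CY

open Cfsg.Agent.H770.CY Cfsg.Agent.Characters

universe u

section Cl

variable {S : Type u} [Group S]

/-- the conjugates of `H` -/
def Cl (H : Subgroup S) : Type u := {K : Subgroup S // ∃ s : S, K = H.map (MulAut.conj s).toMonoidHom}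

theorem map_mul' (H : Subgroup S) (a b : MulAut S) :
    H.map (a * b).toMonoidHom = (H.map b.toMonoidHom).map a.toMonoidHom := by
  rw [Subgroup.map_map]
  rfl

theorem mul_conj' (a : MulAut S) (s : S) : a * MulAut.conj s = MulAut.conj (a s) * a := by
  ext x
  simp [MulAut.mul_apply, MulAut.conj_apply]

/-- the action of the automorphisms on the conjugates of `H` -/
@[reducible] def actCl {H : Subgroup S}
    (hs : ∀ a : MulAut S, ∃ s : S, H.map a.toMonoidHom = H.map (MulAut.conj s).toMonoidHom) :
    MulAction (MulAut S) (Cl H) where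
  smul a K := ⟨K.1.map a.toMonoidHom, by
    obtain ⟨s, hK⟩ := K.2
    obtain ⟨t, ht⟩ := hs a
    refine ⟨a s * t, ?_⟩
    rw [hK, ← map_mul', mul_conj', map_mul', ht, ← map_mul', ← map_mul]⟩
  one_smul K := Subtype.ext (Subgroup.map_id _)
  mul_smul a b K := Subtype.ext (map_mul' K.1 a b)

theorem mem_map_conj {H : Subgroup S} {g x : S} : x ∈ H.map (MulAut.conj g).toMonoidHom ↔ g⁻¹ * x * g ∈ H := by
  constructor
  · rintro ⟨y, hy, rfl⟩
    have h1 : g⁻¹ * (MulAut.conj g).toMonoidHom y * g = y := by
      show g⁻¹ * (g * y * g⁻¹) * g = y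
      group
    rw [h1]
    exact hy
  · intro h
    refine ⟨_, h, ?_⟩
    show g * (g⁻¹ * x * g) * g⁻¹ = x
    group

theorem map_conj_eq_iff {H : Subgroup S} (hN : Subgroup.normalizer (H : Set S) = H) {g k : S} :
    H.map (MulAut.conj g).toMonoidHom = H.map (MulAut.conj k).toMonoidHom ↔ g⁻¹ * k ∈ H := by
  constructor
  · intro h
    rw [← hN, Subgroup.mem_normalizer_iff]
    intro x
    have h1 : k * x * k⁻¹ ∈ H.map (MulAut.conj g).toMonoidHom ↔ k * x * k⁻¹ ∈ H.map (MulAut.conj k).toMonoidHom := by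
      rw [h]
    rw [mem_map_conj, mem_map_conj, show k⁻¹ * (k * x * k⁻¹) * k = x by group,
      show g⁻¹ * (k * x * k⁻¹) * g = g⁻¹ * k * x * (g⁻¹ * k)⁻¹ by group] at h1
    exact h1.symm
  · intro h
    ext x
    rw [mem_map_conj, mem_map_conj, show k⁻¹ * x * k = (g⁻¹ * k)⁻¹ * (g⁻¹ * x * g) * (g⁻¹ * k) by group,
      H.mul_mem_cancel_right h, H.mul_mem_cancel_left (H.inv_mem h)]

/-- the cosets and the conjugates -/
noncomputable def eqv {H : Subgroup S} (hN : Subgroup.normalizer (H : Set S) = H) : S ⧸ H ≃ Cl H :=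
  Equiv.ofBijective
    (Quotient.lift (s := QuotientGroup.leftRel H) (fun g : S => (⟨H.map (MulAut.conj g).toMonoidHom, g, rfl⟩ : Cl H))
      fun a b hab => Subtype.ext ((map_conj_eq_iff hN).2 (QuotientGroup.leftRel_apply.1 hab)))
    (by
      constructor
      · intro x y hxy
        induction x using QuotientGroup.induction_on with
        | _ a =>
        induction y using QuotientGroup.induction_on with
        | _ b =>
        exact QuotientGroup.eq.2 ((map_conj_eq_iff hN).1 (congrArg Subtype.val hxy))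
      · rintro ⟨K, s, rfl⟩
        exact ⟨QuotientGroup.mk s, rfl⟩)

theorem eqv_mk {H : Subgroup S} (hN : Subgroup.normalizer (H : Set S) = H) (g : S) :
    (eqv hN (QuotientGroup.mk g)).1 = H.map (MulAut.conj g).toMonoidHom := rfl

theorem eqv_smul {H : Subgroup S} (hN : Subgroup.normalizer (H : Set S) = H) (s : S) (x : S ⧸ H) :
    (eqv hN (s • x)).1 = (eqv hN x).1.map (MulAut.conj s).toMonoidHom := by
  induction x using QuotientGroup.induction_on with
  | _ a =>
  show H.map (MulAut.conj (s * a)).toMonoidHom = _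
  rw [eqv_mk, ← map_mul', map_mul]

end Cl

/-- **The row from a multiplicity free permutation character.** -/
theorem rowA_of_MF {p : ℕ} [hp : Fact p.Prime] {S : Type u} [Group S] [Fintype S] {H : Subgroup S} (h : MF p H) :
    RowA p S := by
  classical
  have hfH : Fintype H := Fintype.ofFinite _
  let _ := actCl h.stab
  have hfin : Finite (Cl H) := Finite.of_equiv _ (eqv h.norm)
  have hcard : Nat.card (Cl H) = H.index := by
    rw [Subgroup.index, Nat.card_congr (eqv h.norm)]
  have hfix : ∀ s : S, (Nat.card (MulAction.fixedBy (Cl H) (MulAut.conj s)) : ℂ) = fixedPointCharacter H s := by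
    intro s
    unfold fixedPointCharacter
    congr 1
    refine (Nat.card_congr ((eqv h.norm).subtypeEquiv fun x => ?_)).symm
    rw [MulAction.mem_fixedBy, MulAction.mem_fixedBy]
    rw [← (eqv h.norm).injective.eq_iff]
    constructor
    · intro h1
      refine Subtype.ext ?_
      have h2 := congrArg Subtype.val h1
      rw [eqv_smul] at h2
      exact h2
    · intro h1
      refine Subtype.ext ?_
      rw [eqv_smul]
      exact congrArg Subtype.val h1
  have hchar : IsCharacter S (fixedPointCharacter H) := S0157.isCharacter_fixedBy (G := S) (S ⧸ H)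
  let one : IrrCharacter S := ⟨fun _ => 1, Core.isIrr_one⟩
  have hone : classInner (fixedPointCharacter H) (one : S → ℂ) = 1 := by
    rw [H139.RealB0.Crit.classInner_fixedPointCharacter]
    have h1 : ∑ h : H, (starRingEnd ℂ) ((one : S → ℂ) h) = (Nat.card H : ℂ) := by
      have h2 : ∀ x : H, (starRingEnd ℂ) ((one : S → ℂ) (x : S)) = 1 := fun x => map_one (starRingEnd ℂ)
      rw [Finset.sum_congr rfl fun x _ => h2 x,
        Finset.sum_const, nsmul_eq_mul, mul_one, Finset.card_univ, Nat.card_eq_fintype_card]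
    rw [h1, inv_mul_cancel₀]
    exact_mod_cast (Nat.card_pos (α := H)).ne'
  have hm : ∀ θ : IrrCharacter S, mul (fixedPointCharacter H - fun _ => 1) (θ : S → ℂ) = 0 ∨
      (mul (fixedPointCharacter H - fun _ => 1) (θ : S → ℂ) = 1 ∧ (θ : S → ℂ) ≠ (fun _ => 1) ∧ Cyc p (θ : S → ℂ)) := by
    intro θ
    have h1 : mul (fixedPointCharacter H - fun _ => 1) (θ : S → ℂ) =
        classInner (fixedPointCharacter H) (θ : S → ℂ) - classInner (one : S → ℂ) (θ : S → ℂ) :=
      Core.classInner_sub_left _ _ _
    rw [h1]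
    by_cases h2 : (θ : S → ℂ) = fun _ => 1
    · left
      rw [h2]
      have h3 : classInner (one : S → ℂ) (one : S → ℂ) = 1 := Core.classInner_irr_self one.2
      exact sub_eq_zero.2 (hone.trans h3.symm)
    · rw [Core.classInner_irr_ne one.2 θ.2 fun h3 => h2 h3.symm, sub_zero]
      rcases h.mf θ with h3 | ⟨h3, h4⟩
      · exact Or.inl h3
      · exact Or.inr ⟨h3, h2, H488.CY.cyc_of_int p θ h4⟩
  have hcl : IsClassFunction S (fixedPointCharacter H - fun _ => 1) := by
    intro g k
    show fixedPointCharacter H _ - 1 = fixedPointCharacter H _ - 1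
    rw [Core.isCharacter_isClassFunction hchar g k]
  obtain ⟨J, _, θ, hinj, hθ, hs⟩ := H125.CY.exists_sum hcl hm
  refine H488.CY.rowA_of_perm (X := Cl H) ?_ ⟨⟨H, 1, ?_⟩⟩ (by rw [hcard]; exact h.dvd) θ hinj hθ ?_
  · rintro ⟨K, s, rfl⟩ ⟨K', t, rfl⟩
    refine ⟨t * s⁻¹, Subtype.ext ?_⟩
    show (H.map (MulAut.conj s).toMonoidHom).map (MulAut.conj (t * s⁻¹)).toMonoidHom = _
    rw [← map_mul', ← map_mul, inv_mul_cancel_right]
  · rw [map_one]
    exact (Subgroup.map_id H).symm
  · intro s
    have h1 : (fixedPointCharacter H s - 1 : ℂ) = ∑ j, ((θ j : IrrCharacter S) : S → ℂ) s := hs s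
    rw [hfix s, ← h1]
    ring

end Cfsg.Agent.H310.CY
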