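import Cfsg.Agent.H310.CY.MfE
import Cfsg.Agent.H310.CY.Row

/-!
# S4829: `E₆(q)`, `E₇(q)`, `E₈(q)`, cross characteristic, `p ∤ q - 1` (helper310)

* `rowA_E6_of_dvd` (`P₂`, `ord_p(q) ∈ {2, 3, 4, 6, 8, 9, 12}`), `rowA_E7_one_of_dvd` (`P₁`, `{2, 3, 6, 7, 9, 12, 14, 18}`),
  `rowA_E7_seven_of_dvd` (`P₇`, `{2, 6, 10, 14, 18}`), `rowA_E7_of_dvd` (both), `rowA_E8_of_dvd`
  (`P₈`, `{2, 3, 4, 5, 6, 8, 10, 12, 15, 20, 24, 30}`).
-/

set_option autoImplicit false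

open Cfsg

namespace Cfsg.Agent.H310.CY

open Cfsg.Agent.H770.CY Cfsg.Agent.H35.PoinNum Cfsg.Lie

universe u

variable (K : Type u) [Field K] [Fintype K] {p : ℕ} [hp : Fact p.Prime]

/-- `E₆`, the parabolic subgroup of type `A₅` -/
theorem rowA_E6_of_dvd [Fintype ↥(chevE6.group K)] {m : ℕ} (hm : m ∈ [2, 3, 4, 6, 8, 9, 12])
    (hd : (p : ℤ) ∣ E (Fintype.card K) m) : RowA p ↥(chevE6.group K) :=
  rowA_of_MF (mf_E6 K hm hd)

/-- `E₇`, the parabolic subgroup of type `D₆` -/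
theorem rowA_E7_one_of_dvd [Fintype ↥(chevE7.group K)] {m : ℕ} (hm : m ∈ [2, 3, 6, 7, 9, 12, 14, 18])
    (hd : (p : ℤ) ∣ E (Fintype.card K) m) : RowA p ↥(chevE7.group K) :=
  rowA_of_MF (mf_E7_one K hm hd)

/-- `E₇`, the parabolic subgroup of type `E₆` -/
theorem rowA_E7_seven_of_dvd [Fintype ↥(chevE7.group K)] {m : ℕ} (hm : m ∈ [2, 6, 10, 14, 18])
    (hd : (p : ℤ) ∣ E (Fintype.card K) m) : RowA p ↥(chevE7.group K) :=
  rowA_of_MF (mf_E7_seven K hm hd)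

/-- `E₇` -/
theorem rowA_E7_of_dvd [Fintype ↥(chevE7.group K)] {m : ℕ} (hm : m ∈ [2, 3, 6, 7, 9, 10, 12, 14, 18])
    (hd : (p : ℤ) ∣ E (Fintype.card K) m) : RowA p ↥(chevE7.group K) := by
  by_cases h : m = 10
  · subst h
    exact rowA_E7_seven_of_dvd K (by decide) hd
  · refine rowA_E7_one_of_dvd K (m := m) ?_ hd
    clear hd
    revert m
    decide

/-- `E₈`, the parabolic subgroup of type `E₇` -/
theorem rowA_E8_of_dvd [Fintype ↥(chevE8.group K)] {m : ℕ} (hm : m ∈ [2, 3, 4, 5, 6, 8, 10, 12, 15, 20, 24, 30])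
    (hd : (p : ℤ) ∣ E (Fintype.card K) m) : RowA p ↥(chevE8.group K) :=
  rowA_of_MF (mf_E8 K hm hd)

end Cfsg.Agent.H310.CY
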