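import Cfsg.Agent.H310.CY.PJ

/-!
# S4829: `E₆(q)`, `E₇(q)`, `E₈(q)`, cross characteristic, `p ∤ q - 1` (helper310)

* `mf_chev` : `MF` from the certificates of helper77 (`H77/RK`);
* `mf_E6` (`P₂`, `ord_p(q) ∈ {2, 3, 4, 6, 8, 9, 12}`), `mf_E7_one` (`P₁`, `{2, 3, 6, 7, 9, 12, 14, 18}`),
  `mf_E7_seven` (`P₇`, `{2, 6, 10, 14, 18}`), `mf_E8` (`P₈`, `{2, 3, 4, 5, 6, 8, 10, 12, 15, 20, 24, 30}`).
-/

set_option autoImplicit false
set_option linter.unusedSectionVars false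
set_option maxRecDepth 100000

open Cfsg

namespace Cfsg.Agent.H310.CY

open CoxeterSystem Cfsg.Agent.ChevalleyStructure.CoxeterGeom Cfsg.Agent.Tits.Roots Cfsg.Agent.Tits.Core
  Cfsg.Agent.Tits.RootComb Cfsg.Agent.Nodes.Reps Cfsg.Agent.Nodes.BNOf
  Cfsg.Agent.Nodes.StabComb Cfsg.Agent.Nodes.Bruhat Cfsg.Agent.Nodes.LeviDec Cfsg.Agent.H35.Poin
  Cfsg.Agent.H35.PoinNum Cfsg.Agent.H35.ExcIdx Cfsg.Agent.H134.StrP
  Cfsg.Agent.ChevalleyStructure.CoxeterGeomTypes Cfsg.Lie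
open Cfsg.Agent.Nodes.RGDChev Cfsg.Agent.ChevalleyStructure.NPerm
open Cfsg.Agent.KFacts.RgdDiag Cfsg.Agent.H554.RG Cfsg.Agent.H116.RatB0 Cfsg.Agent.H541.RatB0
open Cfsg.Agent.H77.RK

universe u

section Sym

theorem inv_step {l : ℕ} {M : CoxeterMatrix (Fin l)} {σ : Equiv.Perm (Fin l)} (hσ : ∀ i j, M (σ i) (σ j) = M i j)
    {g g' : Fin l → ℕ} (hg : ∀ i, g (σ i) = g i) (h : ∀ i, g' i = ∑ j, if M i j = 3 then g j else 0) (i : Fin l) :
    g' (σ i) = g' i := by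
  rw [h, h, ← Equiv.sum_comp σ]
  exact Finset.sum_congr rfl fun j _ => by rw [hσ, hg]

theorem e8_sym {σ : Equiv.Perm (Fin 8)} (hσ : ∀ i j, CoxeterMatrix.E₈ (σ i) (σ j) = CoxeterMatrix.E₈ i j) :
    σ 7 = 7 := by
  have h1 : ∀ i, (![1, 1, 2, 3, 2, 2, 2, 1] : Fin 8 → ℕ) (σ i) = (![1, 1, 2, 3, 2, 2, 2, 1] : Fin 8 → ℕ) i :=
    inv_step hσ (g := fun _ => 1) (fun _ => rfl) (by decide)
  have h2 : ∀ i, (![2, 3, 4, 5, 5, 4, 3, 2] : Fin 8 → ℕ) (σ i) = (![2, 3, 4, 5, 5, 4, 3, 2] : Fin 8 → ℕ) i :=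
    inv_step hσ h1 (by decide)
  have h3 : ∀ i, (![4, 5, 7, 12, 9, 8, 6, 3] : Fin 8 → ℕ) (σ i) = (![4, 5, 7, 12, 9, 8, 6, 3] : Fin 8 → ℕ) i :=
    inv_step hσ h2 (by decide)
  have h4 := h3 7
  have key : ∀ x : Fin 8, (![4, 5, 7, 12, 9, 8, 6, 3] : Fin 8 → ℕ) x = (![4, 5, 7, 12, 9, 8, 6, 3] : Fin 8 → ℕ) 7 →
    x = 7 := by decide
  exact key _ h4

end Sym

section Gen

variable {D : ChevalleyDatum} {l : ℕ} {M : CoxeterMatrix (Fin l)}

/-- **`MF` from a certificate.** -/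
theorem mf_chev {c : Cert} (hc : c.Ok) {Dg : List (List ℤ)} (hD : c.chkD Dg = true)
    (hl : c.l = l) (hp : IsType D l M)
    (hAA : ∀ i j : Fin l, cartanOf D l i j = c.A (Fin.cast hl.symm i) (Fin.cast hl.symm j))
    (K : Type u) [Field K] [Fintype K] [Fintype ↥(D.group K)] {k0 : Fin l} (hk0 : k0.val = c.k)
    (hs : ∀ σ : Equiv.Perm (Fin l), (∀ i j, M (σ i) (σ j) = M i j) → σ k0 = k0) {p : ℕ}
    (hd : p ∣ (PJ M.toCoxeterSystem hp.isCartan (TT D K) (XX D l K) {j | j ≠ k0}).index) :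
    MF p (PJ M.toCoxeterSystem hp.isCartan (TT D K) (XX D l K) {j | j ≠ k0}) := by
  obtain ⟨r, f, _, hr, hf, hK⟩ := exists_pow K
  have : Fact r.Prime := ⟨hr⟩
  have hfin := finite_W hp M.toCoxeterSystem
  have R := rgd (K := K) hp M.toCoxeterSystem r
  have hG := GG_eq_top hp K M.toCoxeterSystem
  obtain ⟨χ, -, h2, h3, h4, -⟩ := Cert.exists_chev hc hD hl hp hAA K hk0
  exact ⟨Cfsg.Agent.H117.ParIdx.normalizer_PJ R hG _, stab_PJ R hG fun σ hσ => image_ne (hs σ hσ), hd,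
    mf_of_cst h2 h3 h4⟩

end Gen

section Rows

variable (K : Type u) [Field K] [Fintype K] {p : ℕ} [hp : Fact p.Prime]

/-- `E₆`, the parabolic subgroup of type `A₅` -/
theorem mf_E6 [Fintype ↥(chevE6.group K)] {m : ℕ} (hm : m ∈ [2, 3, 4, 6, 8, 9, 12])
    (hd : (p : ℤ) ∣ E (Fintype.card K) m) :
    MF p (PJ CoxeterMatrix.E₆.toCoxeterSystem hpE6.isCartan (TT chevE6 K) (XX chevE6 6 K) {j | j ≠ 1}) := by
  obtain ⟨r, f, _, hr, hf, hK⟩ := exists_pow K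
  rw [hK] at hd
  have h2 := two_le hr hf
  refine mf_chev e62_ok e62_chkD (l := 6) rfl hpE6 e62_cartan K (k0 := 1) rfl (fun σ hσ => e6_sym hσ) ?_
  refine dvd_index_of hpE6 K hr hf hK (g := Nat.gcd 3 (r ^ f - 1)) (Nat.gcd_dvd_right _ _)
    (by rw [← hK]; exact Cfsg.Agent.S1035.result rfl (chevE6, Nat.gcd 3 (Fintype.card K - 1)) (by simp))
    (dS := [2, 5, 6, 8, 9, 12]) (N := 31) (by decide) ⟨f * 36, ?_⟩ hd ?_ 1 (J := [0, 2, 3, 4, 5])
    (dJ := [1, 2, 3, 4, 5, 6]) (by decide) (fun _ R hs => oE6_02345 R h2 hs) (by decide) (by decide)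
    (by clear hd; revert m; decide)
  · have h3 := Cfsg.Agent.S1063.result hK
    rw [pow_mul]
    simp only [pr_cons, pr_nil]
    rw [h3]
    ring
  · clear hd; revert m; decide

/-- `E₇`, the parabolic subgroup of type `D₆` -/
theorem mf_E7_one [Fintype ↥(chevE7.group K)] {m : ℕ} (hm : m ∈ [2, 3, 6, 7, 9, 12, 14, 18])
    (hd : (p : ℤ) ∣ E (Fintype.card K) m) :
    MF p (PJ CoxeterMatrix.E₇.toCoxeterSystem hpE7.isCartan (TT chevE7 K) (XX chevE7 7 K) {j | j ≠ 0}) := by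
  obtain ⟨r, f, _, hr, hf, hK⟩ := exists_pow K
  rw [hK] at hd
  have h2 := two_le hr hf
  have hS : ∃ b, Nat.gcd 2 (r ^ f - 1) * Nat.card ↥(chevE7.group K) =
      r ^ b * pr (r ^ f) [2, 6, 8, 10, 12, 14, 18] := by
    refine ⟨f * 63, ?_⟩
    have h3 := Cfsg.Agent.S1064.result hK
    rw [pow_mul]
    simp only [pr_cons, pr_nil]
    rw [h3]
    ring
  have hT : Nat.gcd 2 (r ^ f - 1) * Nat.card (chevE7.diagonalSubgroup K) = (r ^ f - 1) ^ chevE7.rank := by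
    rw [← hK]; exact Cfsg.Agent.S1035.result rfl (chevE7, Nat.gcd 2 (Fintype.card K - 1)) (by simp)
  refine mf_chev e71_ok e71_chkD (l := 7) rfl hpE7 e71_cartan K (k0 := 0) rfl
    (fun σ hσ => Cfsg.Agent.H422.RatB.e7_sym hσ) ?_
  exact dvd_index_of hpE7 K hr hf hK (Nat.gcd_dvd_right _ _) hT (N := 31) (by decide) hS hd
      (by clear hd; revert m; decide) 0
      (J := [1, 2, 3, 4, 5, 6]) (dJ := [1, 2, 4, 6, 6, 8, 10]) (by decide) (fun _ R hs => oE7_123456 R h2 hs) (by decide)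
      (by decide) (by clear hd; revert m; decide)

/-- `E₇`, the parabolic subgroup of type `E₆` -/
theorem mf_E7_seven [Fintype ↥(chevE7.group K)] {m : ℕ} (hm : m ∈ [2, 6, 10, 14, 18])
    (hd : (p : ℤ) ∣ E (Fintype.card K) m) :
    MF p (PJ CoxeterMatrix.E₇.toCoxeterSystem hpE7.isCartan (TT chevE7 K) (XX chevE7 7 K) {j | j ≠ 6}) := by
  obtain ⟨r, f, _, hr, hf, hK⟩ := exists_pow K
  rw [hK] at hd
  have h2 := two_le hr hf
  have hS : ∃ b, Nat.gcd 2 (r ^ f - 1) * Nat.card ↥(chevE7.group K) =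
      r ^ b * pr (r ^ f) [2, 6, 8, 10, 12, 14, 18] := by
    refine ⟨f * 63, ?_⟩
    have h3 := Cfsg.Agent.S1064.result hK
    rw [pow_mul]
    simp only [pr_cons, pr_nil]
    rw [h3]
    ring
  have hT : Nat.gcd 2 (r ^ f - 1) * Nat.card (chevE7.diagonalSubgroup K) = (r ^ f - 1) ^ chevE7.rank := by
    rw [← hK]; exact Cfsg.Agent.S1035.result rfl (chevE7, Nat.gcd 2 (Fintype.card K - 1)) (by simp)
  refine mf_chev e77_ok e77_chkD (l := 7) rfl hpE7 e77_cartan K (k0 := 6) rfl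
    (fun σ hσ => e7_sym6 hσ) ?_
  exact dvd_index_of hpE7 K hr hf hK (Nat.gcd_dvd_right _ _) hT (N := 31) (by decide) hS hd
      (by clear hd; revert m; decide) 6
      (J := [0, 1, 2, 3, 4, 5]) (dJ := [1, 2, 5, 6, 8, 9, 12]) (by decide) (fun _ R hs => oE7_012345 R h2 hs) (by decide)
      (by decide) (by clear hd; revert m; decide)

/-- `E₈`, the parabolic subgroup of type `E₇` -/
theorem mf_E8 [Fintype ↥(chevE8.group K)] {m : ℕ} (hm : m ∈ [2, 3, 4, 5, 6, 8, 10, 12, 15, 20, 24, 30])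
    (hd : (p : ℤ) ∣ E (Fintype.card K) m) :
    MF p (PJ CoxeterMatrix.E₈.toCoxeterSystem hpE8.isCartan (TT chevE8 K) (XX chevE8 8 K) {j | j ≠ 7}) := by
  obtain ⟨r, f, _, hr, hf, hK⟩ := exists_pow K
  rw [hK] at hd
  have h2 := two_le hr hf
  refine mf_chev e88_ok e88_chkD (l := 8) rfl hpE8 e88_cartan K (k0 := 7) rfl (fun σ hσ => e8_sym hσ) ?_
  refine dvd_index_of hpE8 K hr hf hK (g := 1) (one_dvd _)
    (by rw [← hK]; exact Cfsg.Agent.S1035.result rfl (chevE8, 1) (by simp))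
    (dS := [2, 8, 12, 14, 18, 20, 24, 30]) (N := 31) (by decide) ⟨f * 120, ?_⟩ hd ?_ 7 (J := [0, 1, 2, 3, 4, 5, 6])
    (dJ := [1, 2, 6, 8, 10, 12, 14, 18]) (by decide) (fun _ R hs => oE8_0123456 R h2 hs) (by decide) (by decide)
    (by clear hd; revert m; decide)
  · have h3 := Cfsg.Agent.S1065.result hK
    rw [pow_mul]
    simp only [pr_cons, pr_nil]
    rw [one_mul, h3]
    ring
  · clear hd; revert m; decide

end Rows

end Cfsg.Agent.H310.CY
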