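import Cfsg.Agent.H117.ParIdx
import Cfsg.Agent.H77.RK.RowE8
import Cfsg.Agent.H77.RK.Mem
import Cfsg.Agent.H541.RatB0.RowsPJ
import Cfsg.Agent.H770.CY.Defs

/-!
# S4829: permutation characters on the cosets of parabolic subgroups (helper310)

* `MF p H` : `N_S(H) = H`, the class of `H` is stable under `Aut S`, `p ∣ |S : H|`, the permutation character on `S / H` is
  multiplicity free, all constituents integer valued;
* `stab_PJ` : parabolic subgroups of types stable under the symmetries of the diagram;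
* `mf_of_cst` : from a list of the constituents.
-/

set_option autoImplicit false
set_option linter.unusedSectionVars false

open Cfsg

namespace Cfsg.Agent.H310.CY

open CoxeterSystem Cfsg.Agent.ChevalleyStructure.CoxeterGeom Cfsg.Agent.Tits.Roots Cfsg.Agent.Tits.Core
  Cfsg.Agent.Nodes.Reps Cfsg.Agent.Nodes.BNOf
  Cfsg.Agent.Nodes.StabComb Cfsg.Agent.Nodes.Bruhat Cfsg.Agent.Nodes.LeviDec
  Cfsg.Agent.KFacts.RgdDiag Cfsg.Agent.H554.RG

universe u

/-- the hypotheses on the subgroup `H` -/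
structure MF (p : ℕ) {S : Type u} [Group S] [Fintype S] (H : Subgroup S) : Prop where
  norm : Subgroup.normalizer (H : Set S) = H
  stab : ∀ a : MulAut S, ∃ s : S, H.map a.toMonoidHom = H.map (MulAut.conj s).toMonoidHom
  dvd : p ∣ H.index
  mf : ∀ θ : IrrCharacter S, classInner (fixedPointCharacter H) (θ : S → ℂ) = 0 ∨
    (classInner (fixedPointCharacter H) (θ : S → ℂ) = 1 ∧ ∀ g, ∃ k : ℤ, (θ : S → ℂ) g = k)

section Rgd

variable {I W : Type*} {S : Type u} [Fintype I] [DecidableEq I] [Group W] [Group S] {M : CoxeterMatrix I}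
  {cs : CoxeterSystem M W} {A : I → I → ℤ} {h : IsCartan M A} {r : ℕ} {T : Subgroup S} {n : I → S}
  {X : (I → ℤ) → Subgroup S} (R : RGD cs h r T n X)

include R in
/-- the class of `P_J` is stable under the automorphisms of `S` -/
theorem stab_PJ [Finite W] [Finite S] [Fact r.Prime] (hG : GG cs h T X = ⊤) {J : Set I}
    (hJ : ∀ σ : Equiv.Perm I, (∀ i j, M (σ i) (σ j) = M i j) → σ '' J = J) (a : MulAut S) :
    ∃ s : S, (PJ cs h T X J).map a.toMonoidHom = (PJ cs h T X J).map (MulAut.conj s).toMonoidHom := by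
  obtain ⟨s, σ, hσ⟩ := exists_std_conj R hG a
  have h1 := hJ σ fun i j => Diag.matrix (R := R) hσ.diag i j
  have h2 := map_PJ R hG hσ J
  rw [h1] at h2
  have e : (MulAut.conj s * a : MulAut S).toMonoidHom = (MulAut.conj s).toMonoidHom.comp (a : S ≃* S).toMonoidHom := rfl
  rw [e, ← Subgroup.map_map] at h2
  refine ⟨s⁻¹, ?_⟩
  have h3 := congrArg (fun P : Subgroup S => P.map (MulAut.conj s⁻¹).toMonoidHom) h2
  simp only [Subgroup.map_map] at h3
  rw [← h3]
  have h4 : ((MulAut.conj s⁻¹).toMonoidHom.comp ((MulAut.conj s).toMonoidHom.comp (a : S ≃* S).toMonoidHom)) =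
      (a : S ≃* S).toMonoidHom := by
    ext x
    show s⁻¹ * (s * a x * s⁻¹) * s⁻¹⁻¹ = a x
    group
  rw [h4]

end Rgd

/-- multiplicity free, from a list of the constituents -/
theorem mf_of_cst {S : Type u} [Group S] [Fintype S] {H : Subgroup S} {r : ℕ} {χ : Fin r → IrrCharacter S}
    (hint : ∀ i g, ∃ z : ℤ, (χ i : S → ℂ) g = z) (h3 : ∀ i, classInner (fixedPointCharacter H) (χ i : S → ℂ) = 1)
    (h4 : ∀ ψ : IrrCharacter S, classInner (fixedPointCharacter H) (ψ : S → ℂ) ≠ 0 → ∃ i, χ i = ψ)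
    (θ : IrrCharacter S) : classInner (fixedPointCharacter H) (θ : S → ℂ) = 0 ∨
      (classInner (fixedPointCharacter H) (θ : S → ℂ) = 1 ∧ ∀ g, ∃ k : ℤ, (θ : S → ℂ) g = k) := by
  by_cases h0 : classInner (fixedPointCharacter H) (θ : S → ℂ) = 0
  · exact Or.inl h0
  · obtain ⟨i, rfl⟩ := h4 θ h0
    exact Or.inr ⟨h3 i, hint i⟩

end Cfsg.Agent.H310.CY
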